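import Cfsg.Agent.H206.EP.F11
import Cfsg.Agent.H284.EP.PS
import Cfsg.Agent.H419.EP.Soc

/-!
# `M₂₄ < SL_11(2)` (helper206, S3499)
-/

set_option autoImplicit false

namespace Cfsg.Agent.H206.EP

open Subgroup Cfsg.Agent.H284 Cfsg.Agent.H419.EP
open scoped MatrixGroups

section

variable {Q : Type*} [Group Q] {F : Type*} [Field F] [Fintype F]

/-- a model over a field with two elements is an isomorphism with the general linear group -/
theorem exists_equiv (hF : Fintype.card F = 2) {n : ℕ} (m : Model Q (Cfsg.Geo.specialLinear (Fin n) F)) :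
    Nonempty (Q ≃* (Module.End F (Fin n → F))ˣ) := by
  classical
  have hu : ∀ c : Fˣ, c = 1 := by
    have h1 : Fintype.card Fˣ = 1 := by rw [Fintype.card_units, hF]
    intro c
    exact (Fintype.card_eq_one_iff.1 h1).elim fun x hx => (hx c).trans (hx 1).symm
  have hS : Cfsg.Geo.specialLinear (Fin n) F = ⊤ := by
    rw [eq_top_iff]
    intro g _
    exact MonoidHom.mem_ker.2 (hu _)
  have hinj : Function.Injective m.π := by
    rw [injective_iff_map_eq_one]
    intro s hs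
    rw [m.ker] at hs
    obtain ⟨c, hc⟩ := (Cfsg.Geo.mem_scalars_iff _).1 hs
    apply Subtype.ext
    apply Units.ext
    rw [hc, hu c]
    simp
  let e1 : Cfsg.Geo.specialLinear (Fin n) F ≃* Q := MulEquiv.ofBijective m.π ⟨hinj, m.surj⟩
  let e2 : Cfsg.Geo.specialLinear (Fin n) F ≃* GL (Fin n) F :=
    (MulEquiv.subgroupCongr hS).trans Subgroup.topEquiv
  exact ⟨(e1.symm.trans e2).trans Matrix.GeneralLinearGroup.toLin⟩

/-- elements of order `23` and `89` of `GL_11(2)` -/
theorem cent_facts (hF : Fintype.card F = 2) (E : Q ≃* (Module.End F (Fin 11 → F))ˣ) {s : ℕ} (hs : s = 23 ∨ s = 89)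
    {z : Q} (hz : z ^ s = 1) (hz1 : z ≠ 1) :
    (∀ a b : Q, a * z = z * a → b * z = z * b → a * b = b * a) ∧ Nat.card {a : Q // a * z = z * a} = 2047 := by
  have hsp : Fact s.Prime := ⟨by rcases hs with rfl | rfl <;> norm_num⟩
  have hs1 : ∀ j ≤ 11, 2 ^ j ≡ 1 [MOD s] → j = 0 ∨ j = 11 := by
    rcases hs with rfl | rfl
    · intro j hj h
      interval_cases j <;> first | exact Or.inl rfl | exact Or.inr rfl | exact absurd h (by decide)
    · intro j hj h
      interval_cases j <;> first | exact Or.inl rfl | exact Or.inr rfl | exact absurd h (by decide)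
  have hs2 : 2 ^ 11 ≡ 1 [MOD s] := by rcases hs with rfl | rfl <;> decide
  have hV : Module.finrank F (Fin 11 → F) = 11 := by rw [Module.finrank_fintype_fun_eq_card, Fintype.card_fin]
  have hZ : ((E z : (Module.End F (Fin 11 → F))ˣ) : Module.End F (Fin 11 → F)) ^ s = 1 := by
    rw [← Units.val_pow_eq_pow_val, ← map_pow, hz, map_one, Units.val_one]
  have hZ1 : ((E z : (Module.End F (Fin 11 → F))ˣ) : Module.End F (Fin 11 → F)) ≠ 1 := by
    intro h
    apply hz1
    apply E.injective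
    rw [map_one]
    exact Units.ext h
  have htr : ∀ a b : Q, a * b = b * a ↔ ((E a : (Module.End F (Fin 11 → F))ˣ) : Module.End F (Fin 11 → F)) * (E b : (Module.End F (Fin 11 → F))ˣ) =
      (E b : (Module.End F (Fin 11 → F))ˣ) * (E a : (Module.End F (Fin 11 → F))ˣ) := by
    intro a b
    rw [← Units.val_mul, ← Units.val_mul, ← map_mul, ← map_mul]
    constructor
    · intro h; rw [h]
    · intro h
      exact E.injective (Units.ext h)
  constructor
  · intro a b ha hb
    rw [htr] at ha hb ⊢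
    exact comm_of_comm hF hV hs1 hs2 hZ hZ1 ha hb
  · rw [← card_units hF hV hs1 hs2 hZ hZ1]
    exact Nat.card_congr (E.toEquiv.subtypeEquiv fun a => htr a z)

/-- **The kill**: `23 ∣ |A|`, `89 ∤ |A|` and no prime power of `|A|` is `1` modulo `23`. -/
theorem kill_2047 [Finite Q] {A : Subgroup Q} {Γ : Subgroup (MulAut Q)} (h : EPT A Γ) (hF : Fintype.card F = 2)
    (m : Model Q (Cfsg.Geo.specialLinear (Fin 11) F)) (h23 : 23 ∣ Nat.card A) (h89 : ¬ 89 ∣ Nat.card A)
    (hfrob : ∀ l, l.Prime → l ∣ Nat.card A → l ≠ 23 → ¬ l ^ (Nat.card A).factorization l ≡ 1 [MOD 23])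
    (hab : ∀ K : Subgroup Q, K ≤ A → (∀ a ∈ A, ∀ k ∈ K, a * k * a⁻¹ ∈ K) → (∀ a ∈ K, ∀ b ∈ K, a * b = b * a) → K = ⊥) :
    False := by
  obtain ⟨E⟩ := exists_equiv hF m
  have hp23 : Fact (Nat.Prime 23) := ⟨by norm_num⟩
  have hp89 : Fact (Nat.Prime 89) := ⟨by norm_num⟩
  -- `y`
  obtain ⟨y', hy'⟩ := exists_prime_orderOf_dvd_card' 23 h23
  set y : Q := (y' : Q) with hy
  have hyA : y ∈ A := y'.2
  have hyo : orderOf y = 23 := by rw [hy, Subgroup.orderOf_coe, hy']
  have hy23 : y ^ 23 = 1 := by rw [← hyo]; exact pow_orderOf_eq_one y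
  have hy1 : y ≠ 1 := by
    intro h1
    rw [h1, orderOf_one] at hyo
    norm_num at hyo
  set Y : Subgroup Q := zpowers y with hYdef
  have hYcard : Nat.card Y = 23 := by rw [hYdef, Nat.card_zpowers, hyo]
  have hYA : Y ≤ A := by rw [hYdef, zpowers_le]; exact hyA
  have hcomY : ∀ a : Q, a * y = y * a → ∀ x ∈ Y, a * x = x * a := by
    intro a ha x hx
    obtain ⟨k, rfl⟩ := mem_zpowers_iff.1 hx
    exact ((show Commute a y from ha).zpow_right k).eq
  obtain ⟨hy2, hy3⟩ := cent_facts hF E (Or.inl rfl) hy23 hy1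
  -- the centraliser
  let C : Subgroup Q :=
    { carrier := {a | a * y = y * a}
      one_mem' := by simp
      mul_mem' := fun {a b} ha hb => by
        change a * b * y = y * (a * b)
        rw [mul_assoc, show b * y = y * b from hb, ← mul_assoc, show a * y = y * a from ha, mul_assoc]
      inv_mem' := fun {a} ha => by
        change a⁻¹ * y = y * a⁻¹
        rw [inv_mul_eq_iff_eq_mul, ← mul_assoc, show a * y = y * a from ha, mul_inv_cancel_right] }
  have hCmem : ∀ a, a ∈ C ↔ a * y = y * a := fun a => Iff.rfl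
  have hCcard : Nat.card C = 2047 := hy3
  have hYC : Y ≤ C := by
    rw [hYdef, zpowers_le]
    exact rfl
  -- `c`
  obtain ⟨c', hc'⟩ := exists_prime_orderOf_dvd_card' 89 (show 89 ∣ Nat.card C by rw [hCcard]; norm_num)
  set c : Q := (c' : Q) with hc
  have hco : orderOf c = 89 := by rw [hc, Subgroup.orderOf_coe, hc']
  have hc89 : c ^ 89 = 1 := by rw [← hco]; exact pow_orderOf_eq_one c
  have hc1 : c ≠ 1 := by
    intro h1
    rw [h1, orderOf_one] at hco
    norm_num at hco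
  have hcy : c * y = y * c := c'.2
  have hcA : c ∉ A := by
    intro h1
    apply h89
    have h2 : orderOf (⟨c, h1⟩ : A) ∣ Nat.card A := orderOf_dvd_natCard _
    rwa [← Subgroup.orderOf_coe, hco] at h2
  obtain ⟨hc2, _⟩ := cent_facts hF E (Or.inr rfl) hc89 hc1
  -- `C_A(Y) = Y`
  have hYc : ∀ a ∈ A, (∀ x ∈ Y, a * x = x * a) → a ∈ Y := by
    have h1 : Y ≤ A ⊓ C := le_inf hYA hYC
    have h2 : Nat.card (A ⊓ C : Subgroup Q) ∣ 23 * 89 := by
      have : Nat.card (A ⊓ C : Subgroup Q) ∣ Nat.card C := Subgroup.card_dvd_of_le inf_le_right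
      rw [hCcard] at this
      exact this
    have h3 : Nat.card (A ⊓ C : Subgroup Q) ∣ 23 := by
      refine Nat.Coprime.dvd_of_dvd_mul_right ?_ h2
      rw [Nat.coprime_comm]
      refine (Nat.Prime.coprime_iff_not_dvd hp89.out).2 fun h4 => h89 ?_
      exact h4.trans (Subgroup.card_dvd_of_le inf_le_left)
    have h4 : Y = A ⊓ C := Subgroup.eq_of_le_of_card_ge h1 (by rw [hYcard]; exact Nat.le_of_dvd (by norm_num) h3)
    intro a ha hax
    rw [h4]
    exact ⟨ha, hax y (mem_zpowers y)⟩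
  have hYc' : Y ≤ cj c A := by
    intro x hx
    rw [mem_cj, mul_assoc, ← hcomY c hcy x hx, inv_mul_cancel_left]
    exact hYA hx
  obtain ⟨u, hu, hun, huY⟩ := h.PS_norm (fun K hK hKn hKab => hab K hK (fun a ha k hk => by
      have := hKn (MulAut.conj a) ((h.conj a).2 ha) k hk
      rwa [MulAut.conj_apply] at this) hKab) hp23.out hYA hYcard hYc hfrob hYc' hcA
  have huA : u ∈ A := (mem_inf.1 hu).1
  have huc : c⁻¹ * u * c ∈ A := mem_cj.1 (mem_inf.1 hu).2
  have hci : ∀ x ∈ Y, c * x = x * c := hcomY c hcy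
  -- `w ∈ Y`
  have hw : u⁻¹ * (c⁻¹ * u * c) ∈ Y := by
    apply hYc _ (A.mul_mem (A.inv_mem huA) huc)
    intro x hx
    have h1 : c * x = x * c := hci x hx
    have h2 : c⁻¹ * (u * x * u⁻¹) = (u * x * u⁻¹) * c⁻¹ := by
      rw [inv_mul_eq_iff_eq_mul, ← mul_assoc, hci _ (hun x hx), mul_inv_cancel_right]
    calc u⁻¹ * (c⁻¹ * u * c) * x = u⁻¹ * c⁻¹ * u * (c * x) := by group
      _ = u⁻¹ * (c⁻¹ * (u * x * u⁻¹)) * u * c := by rw [h1]; group
      _ = u⁻¹ * ((u * x * u⁻¹) * c⁻¹) * u * c := by rw [h2]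
      _ = x * (u⁻¹ * (c⁻¹ * u * c)) := by group
  set w : Q := u⁻¹ * (c⁻¹ * u * c) with hwdef
  have hw23 : w ^ 23 = 1 := by
    obtain ⟨k, hk⟩ := mem_zpowers_iff.1 hw
    rw [← hk, ← zpow_natCast, ← zpow_mul, mul_comm, zpow_mul, zpow_natCast, hy23, one_zpow]
  have hwc : w * c⁻¹ = u⁻¹ * c⁻¹ * u := by rw [hwdef]; group
  have hcomm : Commute w c⁻¹ := (show Commute c w from hci w hw).symm.inv_right
  have hw89 : w ^ 89 = 1 := by
    have h1 : (w * c⁻¹) ^ 89 = 1 := by
      rw [hwc]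
      have h2 : u⁻¹ * c⁻¹ * u = u⁻¹ * c⁻¹ * u⁻¹⁻¹ := by rw [inv_inv]
      rw [h2, conj_pow, inv_pow, hc89, inv_one, mul_one, mul_inv_cancel]
    rwa [hcomm.mul_pow, inv_pow, hc89, inv_one, mul_one] at h1
  have hw1 : w = 1 := by
    have h1 : orderOf w ∣ 23 := orderOf_dvd_of_pow_eq_one hw23
    have h2 : orderOf w ∣ 89 := orderOf_dvd_of_pow_eq_one hw89
    have h3 : orderOf w ∣ Nat.gcd 23 89 := Nat.dvd_gcd h1 h2
    rw [show Nat.gcd 23 89 = 1 by norm_num] at h3
    exact orderOf_eq_one_iff.1 (Nat.dvd_one.1 h3)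
  rw [hw1, one_mul] at hwc
  have huc' : u * c = c * u := by
    have h1 : c⁻¹ = u⁻¹ * c⁻¹ * u := hwc
    have h2 : c = u⁻¹ * c * u := by
      have := congrArg (fun t => t⁻¹) h1
      simpa [mul_assoc] using this
    calc u * c = u * (u⁻¹ * c * u) := by rw [← h2]
      _ = c * u := by group
  have huy := hc2 u y huc' hcy.symm
  exact huY (hYc u huA (hcomY u huy))

end

end Cfsg.Agent.H206.EP

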