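import Cfsg.Agent.H206.EP.Ind
import Cfsg.Agent.H206.EP.Kill2047
import Cfsg.Agent.Mrg.Omega.TwoF.RowLU
import Cfsg.Agent.S0365

/-!
# S3499, dimension 11 (helper206, task 5987): the three socles
-/

set_option autoImplicit false

namespace Cfsg.Agent.H206.EP

open Subgroup Cfsg.Agent.H284 Cfsg.Agent.H419.EP
open scoped MatrixGroups

variable {Q : Type*} [Group Q] [Finite Q] {A : Subgroup Q} {Γ : Subgroup (MulAut Q)}

/-- socle `L_2(23)` -/
theorem le_l23 (h : EPT A Γ) {L : Type*} [Group L] (hL : HasSoc A L)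
    (e : Nonempty (L ≃* Matrix.ProjectiveSpecialLinearGroup (Fin 2) (ZMod 23))) : Nat.card Q ≤ 2 ^ 114 := by
  have h23 : Fact (Nat.Prime 23) := ⟨by norm_num⟩
  obtain ⟨e⟩ := e
  obtain ⟨c1, c2⟩ := card_l23 (F := ZMod 23) (ZMod.card 23)
  rcases card_cases (hL.congr e) c1 (by rw [c2]) with hA | hA
  · refine card_le_of h {2, 3, 11, 23} (fun p => if p = 2 then 3 else 1) (by
      intro p hp
      simp only [Finset.mem_insert, Finset.mem_singleton] at hp
      rcases hp with rfl | rfl | rfl | rfl <;> norm_num) (by rw [hA]; decide) (by decide +kernel)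
  · refine card_le_of h {2, 3, 11, 23} (fun p => if p = 2 then 4 else 1) (by
      intro p hp
      simp only [Finset.mem_insert, Finset.mem_singleton] at hp
      rcases hp with rfl | rfl | rfl | rfl <;> norm_num) (by rw [hA]; decide) (by decide +kernel)

/-- socle `U_5(2)` -/
theorem le_u52 (h : EPT A Γ) {L : Type*} [Group L] (hL : HasSoc A L)
    (e : ∃ (K : Type) (_ : Field K) (_ : Fintype K), Fintype.card K = 4 ∧ Nonempty (L ≃* Cfsg.PSU 5 K 2)) :
    Nat.card Q ≤ 2 ^ 266 := by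
  obtain ⟨K, i1, i2, hK, ⟨e⟩⟩ := e
  obtain ⟨c1, c2⟩ := card_u52 hK
  rcases card_cases (hL.congr e) c1 (by rw [c2]) with hA | hA
  · refine card_le_of h {2, 3, 5, 11} (fun p => if p = 2 then 10 else if p = 3 then 5 else 1) (by
      intro p hp
      simp only [Finset.mem_insert, Finset.mem_singleton] at hp
      rcases hp with rfl | rfl | rfl | rfl <;> norm_num) (by rw [hA]; decide) (by decide +kernel)
  · refine card_le_of h {2, 3, 5, 11} (fun p => if p = 2 then 11 else if p = 3 then 5 else 1) (by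
      intro p hp
      simp only [Finset.mem_insert, Finset.mem_singleton] at hp
      rcases hp with rfl | rfl | rfl | rfl <;> norm_num) (by rw [hA]; decide) (by decide +kernel)

/-- socle `M₂₄`, `q = 2` -/
theorem kill_m24 (h : EPT A Γ) {F : Type*} [Field F] [Fintype F] (hF : Fintype.card F = 2)
    (m : Model Q (Cfsg.Geo.specialLinear (Fin 11) F)) {L : Type*} [Group L] (hL : HasSoc A L)
    (e : Cfsg.Spor.IsoM24 L) : False := by
  obtain ⟨e⟩ := e
  have hA1 := (hL.congr e).card_dvd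
  have hA2 := (hL.congr e).card_le
  rw [Cfsg.Agent.SporadicA.M24Trans.card_M24] at hA1
  rw [Cfsg.Agent.Omega.TwoF.RowM24.card_mulAut] at hA2
  have hA : Nat.card A = 244823040 := le_antisymm hA2 (Nat.le_of_dvd Nat.card_pos hA1)
  have hs := Cfsg.Agent.S0365.result
  refine kill_2047 h hF m (by rw [hA]; norm_num) (by rw [hA]; norm_num) ?_ ?_
  · intro l hl hl1 hl2
    rw [hA] at hl1 ⊢
    have hfac : (244823040 : ℕ) = 2 ^ 10 * 3 ^ 3 * 5 * 7 * 11 * 23 := by norm_num
    have hl3 : l = 2 ∨ l = 3 ∨ l = 5 ∨ l = 7 ∨ l = 11 := by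
      rw [hfac] at hl1
      rcases (Nat.Prime.dvd_mul hl).1 hl1 with hl1 | hl1
      · rcases (Nat.Prime.dvd_mul hl).1 hl1 with hl1 | hl1
        · rcases (Nat.Prime.dvd_mul hl).1 hl1 with hl1 | hl1
          · rcases (Nat.Prime.dvd_mul hl).1 hl1 with hl1 | hl1
            · rcases (Nat.Prime.dvd_mul hl).1 hl1 with hl1 | hl1
              · exact Or.inl ((Nat.prime_dvd_prime_iff_eq hl (by norm_num)).1 (hl.dvd_of_dvd_pow hl1))
              · exact Or.inr (Or.inl ((Nat.prime_dvd_prime_iff_eq hl (by norm_num)).1 (hl.dvd_of_dvd_pow hl1)))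
            · exact Or.inr (Or.inr (Or.inl ((Nat.prime_dvd_prime_iff_eq hl (by norm_num)).1 hl1)))
          · exact Or.inr (Or.inr (Or.inr (Or.inl ((Nat.prime_dvd_prime_iff_eq hl (by norm_num)).1 hl1))))
        · exact Or.inr (Or.inr (Or.inr (Or.inr ((Nat.prime_dvd_prime_iff_eq hl (by norm_num)).1 hl1))))
      · exact absurd ((Nat.prime_dvd_prime_iff_eq hl (by norm_num)).1 hl1) hl2
    have key : ∀ (p a : ℕ), p.Prime → p ^ a ∣ 244823040 → ¬ p ^ (a + 1) ∣ 244823040 →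
        (244823040 : ℕ).factorization p = a := by
      intro p a hp h1 h2
      have h3 := (hp.pow_dvd_iff_le_factorization (by norm_num)).1 h1
      have h4 : ¬ a + 1 ≤ (244823040 : ℕ).factorization p := fun h5 =>
        h2 ((hp.pow_dvd_iff_le_factorization (by norm_num)).2 h5)
      omega
    rcases hl3 with rfl | rfl | rfl | rfl | rfl
    · rw [key 2 10 (by norm_num) (by norm_num) (by norm_num)]; decide
    · rw [key 3 3 (by norm_num) (by norm_num) (by norm_num)]; decide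
    · rw [key 5 1 (by norm_num) (by norm_num) (by norm_num)]; decide
    · rw [key 7 1 (by norm_num) (by norm_num) (by norm_num)]; decide
    · rw [key 11 1 (by norm_num) (by norm_num) (by norm_num)]; decide
  · intro K hK hKn hKab
    refine (hL.congr e).no_abelian hs ?_ hK hKn hKab
    intro hc
    let : CommGroup Cfsg.M24 := { (inferInstance : Group Cfsg.M24) with mul_comm := hc }
    have h3 : (Nat.card Cfsg.M24).Prime := IsSimpleGroup.prime_card
    rw [Cfsg.Agent.SporadicA.M24Trans.card_M24] at h3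
    norm_num at h3

/-- `SL_11(q)`, `q ≥ 3` -/
theorem sl_large {F : Type*} [Field F] [Fintype F] (m : Model Q (Cfsg.Geo.specialLinear (Fin 11) F)) {q0 N : ℕ}
    (h1 : 2 ≤ q0) (h2 : q0 ≤ Fintype.card F) (hN : N * q0 ^ 2 < ((q0 - 1) * q0 ^ 10) ^ 11) : N < Nat.card Q := by
  have h3 := card_gl_le m
  rw [show 11 - 1 = 10 by norm_num] at h3
  set q := Fintype.card F with hq
  by_contra hcon
  push Not at hcon
  have h4 : ((q0 - 1) * q0 ^ 10) ^ 11 * q ^ 2 ≤ ((q - 1) * q ^ 10) ^ 11 * q0 ^ 2 := by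
    have e1 : ((q0 - 1) * q0 ^ 10) ^ 11 * q ^ 2 = ((q0 - 1) ^ 11 * q0 ^ 108) * (q0 * q) ^ 2 := by ring
    have e2 : ((q - 1) * q ^ 10) ^ 11 * q0 ^ 2 = ((q - 1) ^ 11 * q ^ 108) * (q0 * q) ^ 2 := by ring
    rw [e1, e2]
    exact Nat.mul_le_mul_right _ (Nat.mul_le_mul (Nat.pow_le_pow_left (by omega) _) (Nat.pow_le_pow_left h2 _))
  have h5 : ((q - 1) * q ^ 10) ^ 11 * q0 ^ 2 ≤ N * q ^ 2 * q0 ^ 2 :=
    Nat.mul_le_mul_right _ (h3.trans (Nat.mul_le_mul_right _ hcon))
  have h6 : N * q0 ^ 2 * q ^ 2 < ((q0 - 1) * q0 ^ 10) ^ 11 * q ^ 2 :=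
    Nat.mul_lt_mul_of_pos_right hN (pow_pos (by omega) 2)
  have h7 : N * q ^ 2 * q0 ^ 2 = N * q0 ^ 2 * q ^ 2 := by ring
  omega

/-- `SU_11(q)`, `q ≥ q0` -/
theorem su_large {F : Type*} [Field F] [Fintype F] {q : ℕ} (hF : Fintype.card F = q ^ 2)
    (m : Model Q (Cfsg.GU 11 F q ⊓ Cfsg.Geo.specialLinear (Fin 11) F)) {q0 N : ℕ}
    (h1 : 2 ≤ q0) (h2 : q0 ≤ q) (hN : N < (q0 - 1) ^ 11 * q0 ^ 106) : N < Nat.card Q := by
  have h3 := card_gu_le hF (by omega) m
  have h4 : q ^ (11 * (11 - 1) / 2) * ∏ i ∈ Finset.range 11, ((q - 1) * q ^ i) = (q - 1) ^ 11 * q ^ 106 * q ^ 4 := by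
    simp only [Finset.prod_range_succ, Finset.prod_range_zero]
    norm_num
    ring
  rw [h4] at h3
  have h5 : (q - 1) ^ 11 * q ^ 106 ≤ Nat.card Q := Nat.le_of_mul_le_mul_right h3 (pow_pos (by omega) 4)
  refine lt_of_lt_of_le hN (le_trans ?_ h5)
  exact Nat.mul_le_mul (Nat.pow_le_pow_left (by omega) _) (Nat.pow_le_pow_left h2 _)

end Cfsg.Agent.H206.EP
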