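import Cfsg.Agent.H206.EP.NSub
import Cfsg.Agent.H419.EP.Soc
import Cfsg.Agent.S0277
import Cfsg.Agent.S0280
import Cfsg.Agent.S0813
import Cfsg.Agent.S0815
import Cfsg.Agent.H397.ZAut

/-!
# Index bounds from the number of subgroups (helper206, S3499)

* `index_le_prod` : `|Q : A| ≤ (∏ |A| / p ^ a * GT p a) ^ 2`;
* `card_gl_le`, `card_gu_le` : `|GL_n(F)| ≤ |Q| |F| ^ 2`, `|GU_n(F)| ≤ |Q| |F| ^ 2` for a model `Q`;
* `dead_of` : the contradiction.
-/

set_option autoImplicit false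
set_option linter.unusedSectionVars false

namespace Cfsg.Agent.H206.EP

open Subgroup Cfsg.Agent.H284 Cfsg.Agent.H419.EP
open scoped MatrixGroups

section

variable {Q : Type*} [Group Q] [Finite Q] {A : Subgroup Q} {Γ : Subgroup (MulAut Q)}

theorem index_le_sub (h : EPT A Γ) : A.index ≤ Nat.card (Subgroup A) ^ 2 := by
  refine h.index_le.trans (Nat.pow_le_pow_left ?_ 2)
  rw [← Set.ncard_univ (Subgroup A)]
  refine Set.ncard_le_ncard_of_injOn (fun M => M.subgroupOf A) (fun _ _ => Set.mem_univ _) ?_ (Set.toFinite _)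
  rintro M ⟨x, _, rfl⟩ N ⟨y, _, rfl⟩ hMN
  have h1 : ∀ K : Subgroup Q, K ≤ A → (K.subgroupOf A).map A.subtype = K := by
    intro K hK
    rw [Subgroup.subgroupOf_map_subtype, inf_eq_left.2 hK]
  rw [← h1 _ (inf_le_left : A ⊓ cj x A ≤ A), ← h1 _ (inf_le_left : A ⊓ cj y A ≤ A)]
  exact congrArg _ hMN

theorem index_le_prod (h : EPT A Γ) (s : Finset ℕ) (a : ℕ → ℕ) (hs : ∀ p ∈ s, p.Prime)
    (hA : Nat.card A = ∏ p ∈ s, p ^ a p) : A.index ≤ (∏ p ∈ s, Nat.card A / p ^ a p * GT p (a p)) ^ 2 :=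
  (index_le_sub h).trans (Nat.pow_le_pow_left (card_subgroup_le s a hs hA) 2)

/-- the order of `Q` -/
theorem card_le_of (h : EPT A Γ) (s : Finset ℕ) (a : ℕ → ℕ) (hs : ∀ p ∈ s, p.Prime)
    (hA : Nat.card A = ∏ p ∈ s, p ^ a p) {N : ℕ}
    (hN : (∏ p ∈ s, p ^ a p) * (∏ p ∈ s, (∏ p ∈ s, p ^ a p) / p ^ a p * GT p (a p)) ^ 2 ≤ N) : Nat.card Q ≤ N := by
  rw [← Subgroup.card_mul_index A]
  refine le_trans ?_ hN
  rw [← hA]
  exact Nat.mul_le_mul_left _ (index_le_prod h s a hs hA)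

end

section models

variable {Q : Type*} [Group Q] [Finite Q] {ι : Type} [Fintype ι] [DecidableEq ι] {F : Type*} [Field F] [Fintype F]

/-- `|S| ≤ |Q| |F|` -/
theorem card_S_le {S : Subgroup (GL ι F)} (m : Model Q S) : Nat.card S ≤ Nat.card Q * Fintype.card F := by
  classical
  have h1 := Subgroup.card_mul_index m.π.ker
  rw [Subgroup.index_ker, MonoidHom.range_eq_top.2 m.surj, Subgroup.card_top] at h1
  rw [← h1, mul_comm]
  apply Nat.mul_le_mul_left
  have h2 : ∀ s : m.π.ker, ∃ c : Fˣ, (((s : S) : GL ι F) : Matrix ι ι F) = (c : F) • (1 : Matrix ι ι F) := by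
    intro s
    exact (Cfsg.Geo.mem_scalars_iff _).1 ((m.ker s.1).1 s.2)
  choose c hc using h2
  have h3 : Function.Injective c := by
    intro s t hst
    apply Subtype.ext
    apply Subtype.ext
    apply Units.ext
    rw [hc s, hc t, hst]
  refine (Nat.card_le_card_of_injective c h3).trans ?_
  rw [← Nat.card_eq_fintype_card]
  exact Nat.card_le_card_of_injective (fun u : Fˣ => (u : F)) Units.val_injective

/-- `|G| ≤ |G ⊓ SL| |F|` -/
theorem card_inf_le (G : Subgroup (GL ι F)) :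
    Nat.card G ≤ Nat.card (G ⊓ Cfsg.Geo.specialLinear ι F : Subgroup (GL ι F)) * Fintype.card F := by
  classical
  let d : G →* Fˣ := (Matrix.GeneralLinearGroup.det : GL ι F →* Fˣ).comp G.subtype
  have h1 := Subgroup.card_mul_index d.ker
  rw [Subgroup.index_ker] at h1
  rw [← h1]
  apply Nat.mul_le_mul
  · refine Nat.card_le_card_of_injective (fun g : d.ker => (⟨((g : G) : GL ι F), (g : G).2, g.2⟩ :
      (G ⊓ Cfsg.Geo.specialLinear ι F : Subgroup (GL ι F)))) ?_
    intro g h hgh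
    apply Subtype.ext
    apply Subtype.ext
    exact congrArg (fun z : (G ⊓ Cfsg.Geo.specialLinear ι F : Subgroup (GL ι F)) => (z : GL ι F)) hgh
  · rw [← Nat.card_eq_fintype_card]
    exact Nat.card_le_card_of_injective (fun u : d.range => ((u : Fˣ) : F)) (Units.val_injective.comp Subtype.val_injective)

theorem card_G_le (G : Subgroup (GL ι F)) (m : Model Q (G ⊓ Cfsg.Geo.specialLinear ι F)) :
    Nat.card G ≤ Nat.card Q * Fintype.card F ^ 2 := by
  refine (card_inf_le G).trans ?_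
  rw [pow_two, ← mul_assoc]
  exact Nat.mul_le_mul_right _ (card_S_le m)

theorem card_gl_le {n : ℕ} (m : Model Q (Cfsg.Geo.specialLinear (Fin n) F)) :
    ((Fintype.card F - 1) * Fintype.card F ^ (n - 1)) ^ n ≤ Nat.card Q * Fintype.card F ^ 2 := by
  have h1 : Nat.card (GL (Fin n) F) ≤ Nat.card Q * Fintype.card F ^ 2 := by
    have h2 := card_G_le (Q := Q) (ι := Fin n) (F := F) (⊤ : Subgroup (GL (Fin n) F)) (by
      rw [top_inf_eq]
      exact m)
    rwa [Subgroup.card_top] at h2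
  refine le_trans ?_ h1
  rw [Matrix.card_GL_field, ← Fin.prod_const]
  refine Finset.prod_le_prod' fun i _ => ?_
  have hq : 2 ≤ Fintype.card F := Fintype.one_lt_card
  have hi := i.2
  have h3 : Fintype.card F ^ (i : ℕ) ≤ Fintype.card F ^ (n - 1) := Nat.pow_le_pow_right (by omega) (by omega)
  have h4 : Fintype.card F ^ n = Fintype.card F ^ (n - 1) * Fintype.card F := by
    rw [← pow_succ]
    congr 1
    omega
  have h5 : (Fintype.card F - 1) * Fintype.card F ^ (n - 1) = Fintype.card F ^ n - Fintype.card F ^ (n - 1) := by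
    rw [h4, Nat.sub_one_mul, mul_comm]
  rw [h5]
  omega

theorem card_gu_le {n q : ℕ} (hF : Fintype.card F = q ^ 2) (hq : 2 ≤ q)
    (m : Model Q (Cfsg.GU n F q ⊓ Cfsg.Geo.specialLinear (Fin n) F)) :
    q ^ (n * (n - 1) / 2) * ∏ i ∈ Finset.range n, ((q - 1) * q ^ i) ≤ Nat.card Q * q ^ 4 := by
  have h1 := card_G_le (Q := Q) (Cfsg.GU n F q) m
  rw [hF, ← pow_mul, Cfsg.Agent.S0277.result hF n] at h1
  refine le_trans (Nat.mul_le_mul_left _ (Finset.prod_le_prod' fun i _ => ?_)) h1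
  have h3 : (q - 1) * q ^ i = q ^ (i + 1) - q ^ i := by
    rw [Nat.sub_one_mul, pow_succ, mul_comm]
  have h4 : 1 ≤ q ^ i := Nat.one_le_pow _ _ (by omega)
  rw [h3]
  split_ifs <;> omega

end models

section socles

/-- `|Aut PSL_2(23)|` -/
theorem card_l23 {F : Type*} [Field F] [Fintype F] (hF : Fintype.card F = 23) :
    Nat.card (Matrix.ProjectiveSpecialLinearGroup (Fin 2) F) = 6072 ∧
      Nat.card (MulAut (Matrix.ProjectiveSpecialLinearGroup (Fin 2) F)) = 12144 := by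
  have h23 : Fact (Nat.Prime 23) := ⟨by norm_num⟩
  constructor
  · have h1 := Cfsg.Agent.ClassicalGeometry.PSL2Basic.card_PSL2_odd F (by rw [hF]; decide)
    rw [hF] at h1
    omega
  · have h1 := Cfsg.Agent.S0813.result (F := F) 23 1 le_rfl (by rw [hF, pow_one]) 2 le_rfl (by norm_num)
    rw [if_pos rfl, one_mul, one_mul] at h1
    rw [h1]
    have h2 := Cfsg.Agent.H397.ZAut.card_pgl (F := F)
    rw [hF] at h2
    exact h2.trans (by norm_num)

/-- `|Aut U_5(2)|` -/
theorem card_u52 {F : Type*} [Field F] [Fintype F] (hF : Fintype.card F = 4) :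
    Nat.card (Cfsg.PSU 5 F 2) = 13685760 ∧ Nat.card (MulAut (Cfsg.PSU 5 F 2)) = 27371520 := by
  have h2 : Fact (Nat.Prime 2) := ⟨by norm_num⟩
  have h4 : Fintype.card F = 2 ^ 2 := by rw [hF]; norm_num
  have h1 : Nat.card (Cfsg.PSU 5 F 2) = 13685760 := by
    have h := Cfsg.Agent.S0280.result h4 5 (by norm_num)
    rw [show Nat.gcd 5 (2 + 1) = 1 by decide] at h
    simp only [Finset.prod_range_succ, Finset.prod_range_zero] at h
    norm_num [Nat.even_iff] at h
    omega
  refine ⟨h1, ?_⟩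
  rw [Cfsg.Agent.S0815.result 2 1 le_rfl (by norm_num) h4 5 (by norm_num) (by norm_num), h1]
  decide

end socles

/-- the order of `A` from its socle -/
theorem card_cases {Q : Type*} [Group Q] [Finite Q] {A : Subgroup Q} {L : Type*} [Group L] [Finite L] (h : HasSoc A L)
    {n : ℕ} (h1 : Nat.card L = n) (h2 : Nat.card (MulAut L) = 2 * n) : Nat.card A = n ∨ Nat.card A = 2 * n := by
  obtain ⟨k, hk⟩ := h.card_dvd
  have hd : Nat.card A ∣ 2 * n := by
    obtain ⟨f, hf⟩ := h.exists_hom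
    rw [← h2]
    exact Subgroup.card_dvd_of_injective f hf
  have hn : 0 < n := by rw [← h1]; exact Nat.card_pos
  rw [hk, h1, mul_comm] at hd ⊢
  have h3 : k ∣ 2 := Nat.dvd_of_mul_dvd_mul_right hn hd
  rcases (Nat.dvd_prime Nat.prime_two).1 h3 with rfl | rfl
  · left; rw [one_mul]
  · right; rfl

end Cfsg.Agent.H206.EP
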