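import Mathlib

/-!
# The number of subgroups of a finite group (helper206, S3499)

* `card_sub_le` : a group of order `p ^ a` has at most `NG p a k` (the number of `k`-dimensional subspaces of `F_p^a`)
  subgroups of order `p ^ k`;
* `card_subgroup_le` : `#subgroups(A) ≤ ∏ p, |A| / p ^ a * GT p a`, `p ^ a` the exact power of `p` dividing `|A|`.
-/

set_option autoImplicit false

namespace Cfsg.Agent.H206.EP

open Subgroup

/-- the number of `k`-dimensional subspaces of `F_p^a` -/
def NG (p : ℕ) : ℕ → ℕ → ℕ
  | 0, 0 => 1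
  | 0, _ + 1 => 0
  | _ + 1, 0 => 1
  | a + 1, k + 1 => NG p a k + p ^ (k + 1) * NG p a (k + 1)

/-- the number of subspaces of `F_p^a` -/
def GT (p a : ℕ) : ℕ := ∑ k ∈ Finset.range (a + 1), NG p a k

/-- homomorphisms to a group of prime order -/
theorem card_hom_le {H Z : Type*} [Group H] [Finite H] [Group Z] {p : ℕ} (hp : p.Prime) (hZ : Nat.card Z = p) :
    Finite (H →* Z) ∧ Nat.card (H →* Z) ≤ Nat.card H := by
  classical
  have hpf := Fact.mk hp
  have hfin : Finite Z := Nat.finite_of_card_ne_zero (by rw [hZ]; exact hp.ne_zero)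
  have hcyc : IsCyclic Z := isCyclic_of_prime_card hZ
  let _ : CommGroup Z := IsCyclic.commGroup
  have hnt : Nontrivial Z := by
    rw [← Finite.one_lt_card_iff_nontrivial, hZ]
    exact hp.one_lt
  obtain ⟨z, hz⟩ := exists_ne (1 : Z)
  have hne : NeZero (Monoid.exponent Z) := ⟨Monoid.exponent_ne_zero_of_finite⟩
  obtain ⟨φ, hφ⟩ := CommGroup.exists_apply_ne_one_of_hasEnoughRootsOfUnity Z ℂ hz
  have hφi : Function.Injective φ := by
    rw [← MonoidHom.ker_eq_bot_iff]
    have h1 : IsSimpleGroup Z := isSimpleGroup_of_prime_card hZ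
    rcases (inferInstance : φ.ker.Normal).eq_bot_or_eq_top with h2 | h2
    · exact h2
    · exfalso
      apply hφ
      have : z ∈ φ.ker := by rw [h2]; exact mem_top _
      exact this
  have hli := linearIndependent_monoidHom H ℂ
  have hf1 : Finite (H →* ℂ) := hli.finite
  have := Fintype.ofFinite (H →* ℂ)
  have := Fintype.ofFinite H
  have h1 : Nat.card (H →* ℂ) ≤ Nat.card H := by
    have h2 := hli.fintype_card_le_finrank
    rwa [Module.finrank_fintype_fun_eq_card, ← Nat.card_eq_fintype_card, ← Nat.card_eq_fintype_card] at h2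
  let F : (H →* Z) → (H →* ℂ) := fun f => (Units.coeHom ℂ).comp (φ.comp f)
  have hF : Function.Injective F := by
    intro f g hfg
    ext h
    apply hφi
    apply Units.ext
    exact DFunLike.congr_fun hfg h
  exact ⟨Finite.of_injective F hF, (Nat.card_le_card_of_injective F hF).trans h1⟩

section

variable {P : Type*} [Group P]

/-- complements of a central subgroup -/
theorem exists_compl_hom {Z H₀ H : Subgroup P} [Z.Normal] (hZ : ∀ z ∈ Z, ∀ x : P, z * x = x * z) (hH : H ⊓ Z = ⊥)
    (hm : H₀.map (QuotientGroup.mk' Z) = H.map (QuotientGroup.mk' Z)) :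
    ∃ f : H₀ →* Z, ∀ x : P, x ∈ H ↔ ∃ h : H₀, x = h * f h := by
  have h1 : ∀ h : H₀, ∃ z : Z, (h : P) * z ∈ H := by
    intro h
    have h2 : QuotientGroup.mk' Z (h : P) ∈ H.map (QuotientGroup.mk' Z) := by
      rw [← hm]
      exact Subgroup.mem_map_of_mem _ h.2
    obtain ⟨x, hx, e⟩ := h2
    have h3 : (h : P)⁻¹ * x ∈ Z := by
      rw [← QuotientGroup.eq]
      exact e.symm
    exact ⟨⟨_, h3⟩, by rw [mul_inv_cancel_left]; exact hx⟩
  have huniq : ∀ (h : P) (z w : P), z ∈ Z → w ∈ Z → h * z ∈ H → h * w ∈ H → z = w := by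
    intro h z w hz hw h3 h4
    have h5 : z⁻¹ * w ∈ H ⊓ Z := by
      refine ⟨?_, Z.mul_mem (Z.inv_mem hz) hw⟩
      have : z⁻¹ * w = (h * z)⁻¹ * (h * w) := by group
      rw [this]
      exact H.mul_mem (H.inv_mem h3) h4
    rw [hH, Subgroup.mem_bot] at h5
    exact inv_mul_eq_one.1 h5
  choose g hg using h1
  refine ⟨{ toFun := g, map_one' := ?_, map_mul' := ?_ }, ?_⟩
  · apply Subtype.ext
    refine huniq 1 _ _ (g 1).2 Z.one_mem (hg 1) ?_
    rw [Subgroup.coe_one, mul_one]
    exact H.one_mem
  · intro a b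
    apply Subtype.ext
    refine huniq ((a * b : H₀) : P) _ _ (g (a * b)).2 (Z.mul_mem (g a).2 (g b).2) (hg (a * b)) ?_
    have e : ((a * b : H₀) : P) * ((g a : P) * g b) = (a * g a) * (b * g b) := by
      rw [Subgroup.coe_mul, mul_assoc, mul_assoc, ← mul_assoc (b : P), ← hZ _ (g a).2 b, mul_assoc]
    have e2 : ((g a * g b : Z) : P) = g a * g b := rfl
    rw [e2, e]
    exact H.mul_mem (hg a) (hg b)
  · intro x
    constructor
    · intro hx
      have h2 : QuotientGroup.mk' Z x ∈ H₀.map (QuotientGroup.mk' Z) := by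
        rw [hm]
        exact Subgroup.mem_map_of_mem _ hx
      obtain ⟨h, hh, e⟩ := h2
      have h3 : h⁻¹ * x ∈ Z := by
        rw [← QuotientGroup.eq]
        exact e
      refine ⟨⟨h, hh⟩, ?_⟩
      have h4 : h⁻¹ * x = g ⟨h, hh⟩ := huniq h _ _ h3 (g ⟨h, hh⟩).2 (by rw [mul_inv_cancel_left]; exact hx) (hg ⟨h, hh⟩)
      change x = h * (g ⟨h, hh⟩ : P)
      rw [← h4, mul_inv_cancel_left]
    · rintro ⟨h, rfl⟩
      exact hg h

theorem card_map_mul [Finite P] (Z H : Subgroup P) [Z.Normal] :
    Nat.card (H ⊓ Z : Subgroup P) * Nat.card (H.map (QuotientGroup.mk' Z)) = Nat.card H := by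
  let g : H →* P ⧸ Z := (QuotientGroup.mk' Z).comp H.subtype
  have h1 : g.range = H.map (QuotientGroup.mk' Z) := by
    rw [MonoidHom.range_comp, Subgroup.range_subtype]
  have h2 : g.ker = Z.subgroupOf H := by
    ext x
    rw [MonoidHom.mem_ker, Subgroup.mem_subgroupOf]
    exact QuotientGroup.eq_one_iff (x : P)
  have h3 := Subgroup.card_mul_index g.ker
  rw [Subgroup.index_ker, h1, h2] at h3
  rw [← h3]
  congr 1
  have h4 : H ⊓ Z = (Z.subgroupOf H).map H.subtype := by rw [Subgroup.subgroupOf_map_subtype, inf_comm]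
  rw [h4]
  exact (Nat.card_congr (Subgroup.equivMapOfInjective _ _ H.subtype_injective).toEquiv).symm

end

/-- **The number of subgroups of order `p ^ k`.** -/
theorem card_sub_le {p : ℕ} (hp : p.Prime) (a : ℕ) : ∀ (k : ℕ) (P : Type*) [Group P] [Finite P], Nat.card P = p ^ a →
    {H : Subgroup P | Nat.card H = p ^ k}.ncard ≤ NG p a k := by
  classical
  have hpf := Fact.mk hp
  induction a with
  | zero =>
    intro k P _ _ hP
    rw [pow_zero] at hP
    have hsub : Subsingleton P := (Nat.card_eq_one_iff_unique.1 hP).1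
    cases k with
    | zero =>
      rw [NG]
      exact Set.ncard_le_one_of_subsingleton _
    | succ k =>
      rw [NG, Nat.le_zero, Set.ncard_eq_zero (Set.toFinite _), Set.eq_empty_iff_forall_notMem]
      intro H hH
      have hH' : Nat.card H = p ^ (k + 1) := hH
      rw [Nat.card_of_subsingleton (1 : H)] at hH'
      have h1 : 1 < p ^ (k + 1) := Nat.one_lt_pow (Nat.succ_ne_zero k) hp.one_lt
      omega
  | succ a ih =>
    intro k P _ _ hP
    cases k with
    | zero =>
      rw [NG]
      apply Set.ncard_le_one (Set.toFinite _) |>.2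
      intro H hH K hK
      have h1 : ∀ L : Subgroup P, Nat.card L = p ^ 0 → L = ⊥ := fun L hL => by
        rw [pow_zero] at hL
        exact Subgroup.card_eq_one.1 hL
      rw [h1 H hH, h1 K hK]
    | succ k =>
      -- a central subgroup of order `p`
      have hPp : IsPGroup p P := IsPGroup.of_card hP
      have hPn : Nontrivial P := by
        rw [← Finite.one_lt_card_iff_nontrivial, hP]
        exact Nat.one_lt_pow (Nat.succ_ne_zero a) hp.one_lt
      have hCn := hPp.center_nontrivial
      obtain ⟨n, hn, hn'⟩ := (hPp.to_subgroup (center P)).nontrivial_iff_card.1 hCn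
      obtain ⟨z, hz⟩ := exists_prime_orderOf_dvd_card' p (show p ∣ Nat.card (center P) by
        rw [hn']
        exact dvd_pow_self p hn.ne')
      set Z : Subgroup P := zpowers (z : P) with hZdef
      have hZc : ∀ y ∈ Z, ∀ x : P, y * x = x * y := by
        intro y hy x
        have hle : Z ≤ center P := by
          rw [hZdef, zpowers_le]
          exact z.2
        exact (Subgroup.mem_center_iff.1 (hle hy) x).symm
      have hZn : Z.Normal := ⟨fun y hy x => by rw [← hZc y hy x, mul_inv_cancel_right]; exact hy⟩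
      have hZcard : Nat.card Z = p := by
        rw [hZdef, Nat.card_zpowers, Subgroup.orderOf_coe, hz]
      have hquot : Nat.card (P ⧸ Z) = p ^ a := by
        have h1 := Subgroup.card_eq_card_quotient_mul_card_subgroup Z
        rw [hP, hZcard, pow_succ] at h1
        exact (Nat.eq_of_mul_eq_mul_right hp.pos h1).symm
      have hdis : ∀ H : Subgroup P, ¬ Z ≤ H → H ⊓ Z = ⊥ := by
        intro H hH
        have h1 : Nat.card (H ⊓ Z : Subgroup P) ∣ p := by
          rw [← hZcard]
          exact Subgroup.card_dvd_of_le inf_le_right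
        rcases (Nat.dvd_prime hp).1 h1 with h2 | h2
        · exact Subgroup.card_eq_one.1 h2
        · exfalso
          apply hH
          have h3 : H ⊓ Z = Z := Subgroup.eq_of_le_of_card_ge inf_le_right (by rw [h2, hZcard])
          rw [← h3]
          exact inf_le_left
      rw [NG]
      set S1 : Set (Subgroup P) := {H | Nat.card H = p ^ (k + 1) ∧ Z ≤ H} with hS1
      set S2 : Set (Subgroup P) := {H | Nat.card H = p ^ (k + 1) ∧ ¬ Z ≤ H} with hS2
      have hunion : {H : Subgroup P | Nat.card H = p ^ (k + 1)} = S1 ∪ S2 := by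
        ext H
        simp only [hS1, hS2, Set.mem_ofPred_eq, Set.mem_union]
        tauto
      rw [hunion]
      refine (Set.ncard_union_le _ _).trans (Nat.add_le_add ?_ ?_)
      · refine le_trans ?_ (ih k (P ⧸ Z) hquot)
        refine Set.ncard_le_ncard_of_injOn (fun H => H.map (QuotientGroup.mk' Z)) ?_ ?_ (Set.toFinite _)
        · rintro H ⟨h1, h2⟩
          have h3 := card_map_mul Z H
          rw [inf_eq_right.2 h2, hZcard, h1, pow_succ, mul_comm] at h3
          exact Nat.eq_of_mul_eq_mul_right hp.pos h3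
        · rintro H ⟨_, h2⟩ K ⟨_, h4⟩ h5
          have h6 : ∀ L : Subgroup P, Z ≤ L → (L.map (QuotientGroup.mk' Z)).comap (QuotientGroup.mk' Z) = L := by
            intro L hL
            rw [Subgroup.comap_map_eq, QuotientGroup.ker_mk', sup_eq_left.2 hL]
          rw [← h6 H h2, ← h6 K h4]
          exact congrArg _ h5
      · refine le_trans ?_ (Nat.mul_le_mul_left _ (ih (k + 1) (P ⧸ Z) hquot))
        have f1 := Fintype.ofFinite (Subgroup P)
        have f2 := Fintype.ofFinite (Subgroup (P ⧸ Z))
        rw [Set.ncard_eq_toFinset_card', Set.ncard_eq_toFinset_card']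
        refine (Finset.card_le_mul_card_image (f := fun H : Subgroup P => H.map (QuotientGroup.mk' Z)) _ (p ^ (k + 1))
          ?_).trans (Nat.mul_le_mul_left _ (Finset.card_le_card ?_))
        · intro K hK
          obtain ⟨H₀, hH₀, rfl⟩ := Finset.mem_image.1 hK
          have hH₀' : Nat.card H₀ = p ^ (k + 1) ∧ ¬ Z ≤ H₀ := by simpa [hS2] using hH₀
          have hhom := card_hom_le (H := H₀) (Z := Z) hp hZcard
          have hfin := hhom.1
          have h1 : ∀ H ∈ (S2.toFinset.filter fun H : Subgroup P =>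
              H.map (QuotientGroup.mk' Z) = H₀.map (QuotientGroup.mk' Z)),
              ∃ f : H₀ →* Z, ∀ x : P, x ∈ H ↔ ∃ h : H₀, x = h * f h := by
            intro H hH
            rw [Finset.mem_filter] at hH
            have hH' : Nat.card H = p ^ (k + 1) ∧ ¬ Z ≤ H := by simpa [hS2] using hH.1
            exact exists_compl_hom hZc (hdis H hH'.2) hH.2.symm
          choose! f hf using h1
          refine le_trans ?_ (hhom.2.trans (le_of_eq hH₀'.1))
          rw [← Set.ncard_coe_finset]
          have := Fintype.ofFinite (H₀ →* Z)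
          rw [Nat.card_eq_fintype_card, ← Finset.card_univ, ← Set.ncard_coe_finset]
          refine Set.ncard_le_ncard_of_injOn f (fun _ _ => Finset.mem_coe.2 (Finset.mem_univ _)) ?_ (Set.toFinite _)
          intro H hH K hK h2
          ext x
          rw [hf H (Finset.mem_coe.1 hH) x, hf K (Finset.mem_coe.1 hK) x, h2]
        · intro K hK
          obtain ⟨H, hH, rfl⟩ := Finset.mem_image.1 hK
          have hH' : Nat.card H = p ^ (k + 1) ∧ ¬ Z ≤ H := by simpa [hS2] using hH
          have h3 := card_map_mul Z H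
          rw [hdis H hH'.2, Subgroup.card_bot, one_mul, hH'.1] at h3
          simpa using h3

/-- the number of subgroups of a `p`-group -/
theorem card_sub_total {p : ℕ} (hp : p.Prime) {a : ℕ} {P : Type*} [Group P] [Finite P] (hP : Nat.card P = p ^ a) :
    Nat.card (Subgroup P) ≤ GT p a := by
  classical
  have := Fintype.ofFinite (Subgroup P)
  have h1 : (Finset.univ : Finset (Subgroup P)) ⊆ (Finset.range (a + 1)).biUnion fun k =>
      Finset.univ.filter fun H : Subgroup P => Nat.card H = p ^ k := by
    intro H _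
    have h2 : Nat.card H ∣ p ^ a := by
      rw [← hP]
      exact Subgroup.card_subgroup_dvd_card H
    obtain ⟨k, hk, hk'⟩ := (Nat.dvd_prime_pow hp).1 h2
    rw [Finset.mem_biUnion]
    exact ⟨k, Finset.mem_range.2 (by omega), Finset.mem_filter.2 ⟨Finset.mem_univ _, hk'⟩⟩
  rw [Nat.card_eq_fintype_card, ← Finset.card_univ]
  refine (Finset.card_le_card h1).trans (Finset.card_biUnion_le.trans ?_)
  refine Finset.sum_le_sum fun k _ => ?_
  refine le_trans (le_of_eq ?_) (card_sub_le hp a k P hP)
  rw [← Set.ncard_coe_finset]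
  congr 1
  ext H
  simp

section total

variable {A : Type*} [Group A] [Finite A]

/-- the number of `p`-subgroups -/
theorem card_psub_le {p : ℕ} [hp : Fact p.Prime] {a : ℕ} (ha : (Nat.card A).factorization p = a) :
    Nat.card {H : Subgroup A // IsPGroup p H} ≤ Nat.card A / p ^ a * GT p a := by
  classical
  have hS : ∀ S : Sylow p A, Nat.card S = p ^ a := fun S => by rw [← ha]; exact S.card_eq_multiplicity
  have h1 : ∀ H : {H : Subgroup A // IsPGroup p H}, ∃ S : Sylow p A, H.1 ≤ S := fun H => H.2.exists_le_sylow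
  choose σ hσ using h1
  have := Fintype.ofFinite (Sylow p A)
  let F : {H : Subgroup A // IsPGroup p H} → Σ S : Sylow p A, Subgroup S := fun H => ⟨σ H, H.1.subgroupOf (σ H)⟩
  have hF : Function.Injective F := by
    intro H K h
    have h2 : ∀ (S T : Sylow p A) (X : Subgroup S) (Y : Subgroup T),
        (⟨S, X⟩ : Σ S : Sylow p A, Subgroup S) = ⟨T, Y⟩ → X.map S.1.subtype = Y.map T.1.subtype := by
      intro S T X Y h
      cases h
      rfl
    have h3 := h2 _ _ _ _ h
    rw [Subgroup.subgroupOf_map_subtype, Subgroup.subgroupOf_map_subtype, inf_eq_left.2 (hσ H),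
      inf_eq_left.2 (hσ K)] at h3
    exact Subtype.ext h3
  refine (Nat.card_le_card_of_injective F hF).trans ?_
  rw [Nat.card_sigma]
  refine (Finset.sum_le_sum fun S _ => card_sub_total hp.out (hS S)).trans ?_
  rw [Finset.sum_const, smul_eq_mul]
  apply Nat.mul_le_mul_right
  obtain ⟨S⟩ : Nonempty (Sylow p A) := inferInstance
  have h4 : Nat.card A = p ^ a * (S : Subgroup A).index := by
    rw [← hS S]
    exact (Subgroup.card_mul_index _).symm
  rw [h4, Nat.mul_div_cancel_left _ (pow_pos hp.out.pos _), Finset.card_univ, ← Nat.card_eq_fintype_card]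
  refine Nat.le_of_dvd (Nat.pos_of_ne_zero Subgroup.index_ne_zero_of_finite) S.card_dvd_index

/-- **The number of subgroups.** -/
theorem card_subgroup_le (s : Finset ℕ) (a : ℕ → ℕ) (hs : ∀ p ∈ s, p.Prime) (hA : Nat.card A = ∏ p ∈ s, p ^ a p) :
    Nat.card (Subgroup A) ≤ ∏ p ∈ s, Nat.card A / p ^ a p * GT p (a p) := by
  classical
  have hne : ∀ p ∈ s, p ^ a p ≠ 0 := fun p hp => pow_ne_zero _ (hs p hp).ne_zero
  have hfac : ∀ p ∈ s, (Nat.card A).factorization p = a p := by
    intro p hp
    rw [hA, Nat.factorization_prod hne, Finsupp.finsetSum_apply, Finset.sum_eq_single p]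
    · rw [(hs p hp).factorization_pow, Finsupp.single_eq_same]
    · intro q hq hqp
      rw [(hs q hq).factorization_pow, Finsupp.single_eq_of_ne (Ne.symm hqp)]
    · exact fun h => absurd hp h
  have hmem : ∀ p : ℕ, p.Prime → p ∣ Nat.card A → p ∈ s := by
    intro p hp hpA
    rw [hA] at hpA
    obtain ⟨q, hq, hpq⟩ := (Prime.dvd_finsetProd_iff hp.prime _).1 hpA
    have h1 := hp.dvd_of_dvd_pow hpq
    rwa [(Nat.prime_dvd_prime_iff_eq hp (hs q hq)).1 h1]
  -- choose Sylow subgroups
  let Y : (p : s) → Type _ := fun p => {H : Subgroup A // IsPGroup (p : ℕ) H}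
  have hex : ∀ (H : Subgroup A) (p : s), ∃ L : Subgroup A, IsPGroup (p : ℕ) L ∧ L ≤ H ∧
      Nat.card L = (p : ℕ) ^ (Nat.card H).factorization p := by
    intro H p
    have hp := Fact.mk (hs p p.2)
    obtain ⟨S⟩ : Nonempty (Sylow (p : ℕ) H) := inferInstance
    refine ⟨(S : Subgroup H).map H.subtype, S.isPGroup'.map _, ?_, ?_⟩
    · rintro _ ⟨x, _, rfl⟩
      exact x.2
    · rw [← Nat.card_congr (Subgroup.equivMapOfInjective _ _ H.subtype_injective).toEquiv]
      exact S.card_eq_multiplicity
  choose L hL1 hL2 hL3 using hex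
  let F : Subgroup A → (p : s) → Y p := fun H p => ⟨L H p, hL1 H p⟩
  have hF : Function.Injective F := by
    have h1 : ∀ H : Subgroup A, H = ⨆ p : s, L H p := by
      intro H
      apply le_antisymm
      · have hle : (⨆ p : s, L H p) ≤ H := iSup_le fun p => hL2 H p
        have h2 : Nat.card H ∣ Nat.card (⨆ p : s, L H p : Subgroup A) := by
          rw [← Nat.factorization_prime_le_iff_dvd Nat.card_pos.ne' Nat.card_pos.ne']
          intro p hp
          by_cases hpH : p ∣ Nat.card H
          · have hps : p ∈ s := hmem p hp (hpH.trans (Subgroup.card_subgroup_dvd_card H))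
            have h3 : Nat.card (L H ⟨p, hps⟩) ∣ Nat.card (⨆ p : s, L H p : Subgroup A) :=
              Subgroup.card_dvd_of_le (le_iSup (fun p : s => L H p) ⟨p, hps⟩)
            rw [hL3] at h3
            exact (hp.pow_dvd_iff_le_factorization Nat.card_pos.ne').1 h3
          · rw [Nat.factorization_eq_zero_of_not_dvd hpH]
            exact Nat.zero_le _
        have h4 := Nat.le_of_dvd Nat.card_pos h2
        rw [Subgroup.eq_of_le_of_card_ge hle h4]
      · exact iSup_le fun p => hL2 H p
    intro H K h
    rw [h1 H, h1 K]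
    congr 1
    funext p
    exact congrArg Subtype.val (congrFun h p)
  refine (Nat.card_le_card_of_injective F hF).trans ?_
  rw [Nat.card_pi, ← Finset.prod_coe_sort s (fun p => Nat.card A / p ^ a p * GT p (a p))]
  refine Finset.prod_le_prod' fun p _ => ?_
  have hp := Fact.mk (hs p p.2)
  exact card_psub_le (hfac p p.2)

end total

end Cfsg.Agent.H206.EP

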