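import Cfsg.Agent.H206.EP.Core11
import Cfsg.Agent.S5854
import Cfsg.Agent.S5857

/-!
# S3499, dimension 11 (helper206, task 5987): the rows
-/

set_option autoImplicit false
set_option exponentiation.threshold 1000

namespace Cfsg.Agent.H206.EP

open Subgroup Cfsg.Agent.H284 Cfsg.Agent.H419.EP
open scoped MatrixGroups

variable {Q : Type*} [Group Q] [Finite Q] {A : Subgroup Q} {Γ : Subgroup (MulAut Q)}

set_option linter.unusedVariables false in
/-- **Row `SL_11(q)`** -/
theorem row_sl11 (hs : IsSimpleGroup Q) (h : EPT A Γ) {F : Type*} [Field F] [Fintype F]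
    (m : Model Q (Cfsg.Geo.specialLinear (Fin 11) F)) (hres : Cfsg.Geo.InLinearResidualClass (m.hat A)) : False := by
  obtain ⟨P, p, hP, hp, hF, h1⟩ := Cfsg.Agent.S5854.result (m.hat A) (m.isMaximalIn h.max) hres
  have hL := hasSoc_of_core m hP
  rcases h1 with ⟨e, hp2, _⟩ | ⟨e, hp3⟩ | ⟨e, hp2⟩
  · have h2 := sl_large m (q0 := 3) (N := 2 ^ 114) (by norm_num) (by
      rw [hF]
      have := hp.two_le
      omega) (by norm_num)
    exact absurd (le_l23 h hL e) (by omega)
  · have h2 := sl_large m (q0 := 7) (N := 2 ^ 266) (by norm_num) (by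
      rw [hF]
      have h3 := hp.two_le
      by_contra hlt
      have h4 : p = 4 := by omega
      rw [h4] at hp
      norm_num at hp) (by norm_num)
    exact absurd (le_u52 h hL e) (by omega)
  · exact kill_m24 h (by rw [hF, hp2]) m hL e

set_option linter.unusedVariables false in
/-- **Row `SU_11(q)`** -/
theorem row_su11 (hs : IsSimpleGroup Q) (h : EPT A Γ) {F : Type*} [Field F] [Fintype F] {q : ℕ}
    (m : Model Q (Cfsg.GU 11 F q ⊓ Cfsg.Geo.specialLinear (Fin 11) F)) (hF : Fintype.card F = q ^ 2)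
    (hres : Cfsg.Geo.InUnitaryResidualClass (m.hat A)) : False := by
  obtain ⟨P, hP, hq, h1⟩ := Cfsg.Agent.S5857.result q hF (m.hat A) (m.isMaximalIn h.max) hres
  have hL := hasSoc_of_core m hP
  rcases h1 with ⟨e, hq2⟩ | ⟨e, hq3, hq2⟩
  · have h2 := su_large hF m (q0 := 5) (N := 2 ^ 114) (by norm_num) (by omega) (by norm_num)
    exact absurd (le_l23 h hL e) (by omega)
  · have h2 := su_large hF m (q0 := 5) (N := 2 ^ 266) (by norm_num) (by omega) (by norm_num)
    exact absurd (le_u52 h hL e) (by omega)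

end Cfsg.Agent.H206.EP

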